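import Groth.Agent.CurveEmbed.Points
import Groth.Agent.RegLoc6.J2Crit
import Groth.Agent.RegLoc6.Normal
import Groth.Agent.TFGG.Integral
import Groth.Agent.S1664
import Groth.Agent.Lib.CurveVanish
import Mathlib.GroupTheory.CosetCover
import Groth.Prelude.Def_KLin

/-!
Regular points and sections avoiding finitely many points on proper curves with `H¹(O) = 0`.
-/

noncomputable section

set_option linter.style.haveILetI false
set_option linter.unusedSectionVars false
set_option backward.isDefEq.respectTransparency false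
set_option backward.isDefEq.respectTransparency.types false

universe u

open CategoryTheory CategoryTheory.Limits AlgebraicGeometry TopologicalSpace Opposite

namespace Groth.Agent.CurveGenusZero

open Groth.Agent Groth.Agent.CurveBundle Groth.Agent.CurveSlope Groth.Agent.CurveStable Groth.Agent.CurvePoint

variable {X : Scheme.{u}} (k : Type u) [Field k] [X.Over (Spec (CommRingCat.of k))] [IsIntegral X]
  [IsProper (X ↘ Spec (CommRingCat.of k))]

include k in
theorem isOpen_regular : IsOpen {x : X | IsRegularLocalRing (X.presheaf.stalk x)} := by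
  refine isOpen_iff_forall_mem_open.2 fun x hx => ?_
  obtain ⟨_, ⟨U, hU, rfl⟩, hxU, -⟩ :=
    X.isBasis_affineOpens.exists_subset_of_mem_open (Set.mem_univ x) isOpen_univ
  letI : Algebra k Γ(X, U) := ((X ↘ Spec (CommRingCat.of k)).appLE ⊤ U le_top |>.hom.comp
    (Scheme.ΓSpecIso (CommRingCat.of k)).inv.hom).toAlgebra
  haveI : Algebra.FiniteType k Γ(X, U) := by
    have h := (X ↘ Spec (CommRingCat.of k)).finiteType_appLE (isAffineOpen_top _) hU le_top
    exact h.comp (RingHom.FiniteType.of_surjective _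
      (ConcreteCategory.bijective_of_isIso (Scheme.ΓSpecIso (CommRingCat.of k)).inv).2)
  have hopen := RegLoc6.isOpen_regular_of_finite_j0 k (fun A' _ _ _ _ =>
    RegLoc6.j0_iff.2 ⟨Set.univ, isOpen_univ, ⟨⟨⊥, Ideal.isPrime_bot⟩, trivial⟩, fun x _ => by
      have : IsArtinianRing A' := IsArtinianRing.of_finite k A'
      have hfield : IsField A' := IsArtinianRing.isField_of_isDomain A'
      apply RegLoc6.isRegularLocalRing_of_isField
      rw [IsLocalRing.isField_iff_maximalIdeal_eq, ← Localization.AtPrime.map_eq_maximalIdeal]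
      letI := hfield.toField
      refine (congrArg (Ideal.map _) ((Ideal.eq_bot_or_top x.asIdeal).resolve_right x.2.ne_top)).trans ?_
      exact Ideal.map_bot⟩) Γ(X, U)
  have key : ∀ (q : PrimeSpectrum Γ(X, U)) (y : X) (hy : y ∈ U), hU.fromSpec q = y →
      (IsRegularLocalRing (X.presheaf.stalk y) ↔ IsRegularLocalRing (Localization.AtPrime q.asIdeal)) := by
    intro q y hy hq
    obtain rfl : q = hU.primeIdealOf ⟨y, hy⟩ :=
      hU.fromSpec.isOpenEmbedding.injective (hq.trans (hU.fromSpec_primeIdealOf ⟨y, hy⟩).symm)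
    letI := X.presheaf.algebra_section_stalk ⟨y, hy⟩
    haveI := hU.isLocalization_stalk ⟨y, hy⟩
    let e : X.presheaf.stalk y ≃+* Localization.AtPrime (hU.primeIdealOf ⟨y, hy⟩).asIdeal :=
      (IsLocalization.algEquiv (hU.primeIdealOf ⟨y, hy⟩).asIdeal.primeCompl _ _).toRingEquiv
    exact ⟨fun h => IsRegularLocalRing.of_ringEquiv e, fun h => IsRegularLocalRing.of_ringEquiv e.symm⟩
  refine ⟨hU.fromSpec '' {q | IsRegularLocalRing (Localization.AtPrime q.asIdeal)}, ?_,
    hU.fromSpec.isOpenEmbedding.isOpenMap _ hopen, ?_⟩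
  · rintro _ ⟨q, hq, rfl⟩
    have hqU : hU.fromSpec q ∈ U := hU.range_fromSpec.le ⟨q, rfl⟩
    exact (key q _ hqU rfl).2 hq
  · exact ⟨hU.primeIdealOf ⟨x, hxU⟩, (key _ x hxU (hU.fromSpec_primeIdealOf ⟨x, hxU⟩)).1 hx,
      hU.fromSpec_primeIdealOf ⟨x, hxU⟩⟩

include k in
theorem finite_nonregular (hdim : topologicalKrullDim X = 1) :
    {x : X | ¬ IsRegularLocalRing (X.presheaf.stalk x)}.Finite := by
  haveI := CurveCohLib.isNoetherian_of_proper (k := k) (X := X)
  refine CurveCohLib.finite_of_closedPoints (isOpen_regular k).isClosed_compl fun x hx => ?_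
  by_contra hc
  obtain rfl := CurveCohLib.eq_genericPoint_of_not_isClosed hdim hc
  exact hx (RegLoc6.isRegularLocalRing_of_isField (CurveBundle.isField_stalk_generic (X := X)))

/-- The length of the reduced closed point `x`. -/
abbrev ptDeg (x : X) (hx : IsClosed ({x} : Set X)) : ℕ :=
  Module.finrank k (Coh.HH X (ClSub.quotMod (ptIdeal x hx)) 0)

theorem deg_ptMod (hdim : topologicalKrullDim X = 1) {x : X} (hx : IsClosed ({x} : Set X)) :
    Curv2.deg k X (ptMod x hx) 1 = -(ptDeg k x hx : ℤ) := by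
  haveI := CurveCohLib.isNoetherian_of_proper (k := k) (X := X)
  have hQc : Coh.IsCoh (ClSub.quotMod (ptIdeal x hx)) := ParShLib.isCoh_quotMod _
  have he := euler_add' k _ _ _ (shortExact_pt x hx) (QCoh.isCoh_kernel QCoh.isCoh_structureModule' hQc _)
    QCoh.isCoh_structureModule' hQc
  haveI := CurveVanish.subsingleton_HH_of_finite (M := ClSub.quotMod (ptIdeal x hx))
    ((Set.finite_singleton x).subset (support_quot_subset x hx)) (closed_support x hx)
    (fun y hy => not_not.1 hy) 0
  rw [CurveRR.euler_eq_h0_sub_h1 k hdim.le hQc.1, Module.finrank_zero_of_subsingleton (R := k)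
      (M := Coh.HH X (ClSub.quotMod (ptIdeal x hx)) 1)] at he
  unfold Curv2.deg
  push_cast at he ⊢
  linarith

include k in
theorem isInvertible_ptMod (hdim : topologicalKrullDim X = 1) {x : X} (hx : IsClosed ({x} : Set X))
    (hr : IsRegularLocalRing (X.presheaf.stalk x)) : PicF.IsInvertible (ptMod x hx) :=
  haveI := hr
  CurveEmbed.isInvertible_point k hdim hx (RegLoc6.isIntegrallyClosed_of_isRegularLocalRing _)

/-- A non-zero section vanishing at a regular closed point forces the degree up. -/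
theorem ptDeg_le (hdim : topologicalKrullDim X = 1) {L : X.Modules} (hL : PicF.IsInvertible L)
    (s : Coh.structureModule X ⟶ L) (hs : s ≠ 0) {x : X} (hx : IsClosed ({x} : Set X))
    (hr : IsRegularLocalRing (X.presheaf.stalk x)) (hxs : x ∉ CohB1.genLocus L s) :
    (ptDeg k x hx : ℤ) ≤ Curv2.deg k X L 1 := by
  haveI := CurveCohLib.isNoetherian_of_proper (k := k) (X := X)
  have hI := isInvertible_ptMod k hdim hx hr
  have hLf := isFinLocFree_of_rank (InvEnd.isFinLocFreeOfRank_one hL)
  have hS := CurveTensor.shortExact_tensor hLf _ _ _ (shortExact_pt x hx)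
  let e : (DCoh.tensorBi.obj L).obj (Coh.structureModule X) ≅ L := KFlatLib.tensorUnitIso L
  let q : L ⟶ (DCoh.tensorBi.obj L).obj (ClSub.quotMod (ptIdeal x hx)) :=
    e.inv ≫ (DCoh.tensorBi.obj L).map (ClSub.toSubscheme (ptIdeal x hx))
  have hzero : s ≫ q = 0 := by
    refine AmpleX.eq_zero_of_one_eq_zero _ ?_
    let Q := (DCoh.tensorBi.obj L).obj (ClSub.quotMod (ptIdeal x hx))
    refine TopCat.Presheaf.section_ext ⟨Q.presheaf, Q.isSheaf⟩ ⊤ _ _ fun y _ => ?_
    change Q.presheaf.germ ⊤ y trivial (q.app ⊤ (InvX.one s)) = Q.presheaf.germ ⊤ y trivial 0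
    rw [map_zero]
    by_cases hy : y = x
    · subst hy
      obtain ⟨U, hyU, e₀, he₀⟩ := InvX.exists_frame hL y
      obtain ⟨g, hg⟩ := he₀.exists_coord le_rfl (AModX.res L (le_top : U ≤ ⊤) (InvX.one s))
      rw [AModX.res_self] at hg
      have hm : X.presheaf.germ U y hyU g ∈ IsLocalRing.maximalIdeal (X.presheaf.stalk y) := fun hu => by
        have h1 : y ∈ X.basicOpen g := (X.mem_basicOpen g y hyU).2 hu
        rw [← InvX.genLocus_inf s he₀ hg] at h1
        exact hxs h1.1
      rw [← Q.presheaf.germ_res_apply (homOfLE (le_top : U ≤ ⊤)) y hyU (q.app ⊤ (InvX.one s))]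
      have h2 : Q.presheaf.map (homOfLE (le_top : U ≤ ⊤)).op (q.app ⊤ (InvX.one s)) =
          g • q.app U e₀ := by
        refine (AModX.app_res q (le_top : U ≤ ⊤) (InvX.one s)).symm.trans ?_
        rw [hg, Scheme.Modules.Hom.app_smul]
      rw [h2]
      exact (QCoh.germ_smul' Q hyU g (q.app U e₀)).trans (smul_tensor_eq_zero y hx hm _)
    · haveI : Subsingleton (Q.presheaf.stalk y) := by
        by_contra hne
        exact CurveTensor.support_tensor_subset hne (subsingleton_stalk_of_ne x hx hy)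
      exact Subsingleton.elim _ _
  haveI := hS.mono_f
  let t := hS.exact.lift (s ≫ e.inv) (by rw [Category.assoc]; exact hzero)
  have ht : t ≫ (DCoh.tensorBi.obj L).map (ClSub.idealModι (ptIdeal x hx)) = s ≫ e.inv :=
    hS.exact.lift_f _ _
  have ht0 : t ≠ 0 := fun h0 => hs <| by
    rw [h0, zero_comp] at ht
    exact (cancel_mono e.inv).1 (ht.symm.trans zero_comp.symm)
  have h := (CurveDeg.deg_le_and_isIso k hdim.le CurveDeg.isInvertible_structureModule
    (InvX.isInvertible_tensorMod hL hI) t ht0).1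
  rw [CurveDeg.deg_structureModule] at h
  have h' := CurveRR.deg_tensor k hdim hL hI
  have hd := deg_ptMod k hdim hx
  change 0 ≤ Curv2.deg k X ((DCoh.tensorBi.obj L).obj (ptMod x hx)) 1 at h
  linarith

variable [Infinite k]

/-- With `H¹(O) = 0` a module of non-negative degree has a section generating it at given points. -/
theorem exists_avoid (hdim : topologicalKrullDim X = 1)
    (h1 : Subsingleton (Coh.HH X (Coh.structureModule X) 1)) {L : X.Modules} (hL : PicF.IsInvertible L)
    (hdeg : 0 ≤ Curv2.deg k X L 1) (F : Finset X) :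
    ∃ s : Coh.structureModule X ⟶ L, s ≠ 0 ∧ ∀ x ∈ F, x ∈ CohB1.genLocus L s := by
  classical
  have hgg := TFGG.isGloballyGenerated_integral k hdim hL (by
    rw [show Curv2.genus k X = 0 from Module.finrank_zero_of_subsingleton]
    simpa using hdeg)
  let G : Finset X := insert (genericPoint X) F
  let M : (x : X) → Submodule (X.presheaf.stalk x) (L.presheaf.stalk x) := fun x =>
    IsLocalRing.maximalIdeal (X.presheaf.stalk x) • ⊤
  let P : ↥G → Submodule k (Coh.structureModule X ⟶ L) := fun x =>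
    { carrier := {s | L.presheaf.germ ⊤ x.1 trivial (InvX.one s) ∈ M x.1}
      add_mem' := fun {a b} ha hb => by
        show L.presheaf.germ ⊤ x.1 trivial (InvX.one (a + b)) ∈ M x.1
        rw [show InvX.one (a + b) = InvX.one a + InvX.one b from rfl, map_add]
        exact Submodule.add_mem _ ha hb
      zero_mem' := by
        show L.presheaf.germ ⊤ x.1 trivial (InvX.one (0 : Coh.structureModule X ⟶ L)) ∈ M x.1
        rw [show InvX.one (0 : Coh.structureModule X ⟶ L) = 0 from rfl, map_zero]
        exact Submodule.zero_mem _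
      smul_mem' := fun a s hs => by
        show L.presheaf.germ ⊤ x.1 trivial (InvX.one (a • s)) ∈ M x.1
        rw [show InvX.one (a • s) = _ from KLin.smul_app_apply a s ⊤ (1 : Γ(X, ⊤)), QCoh.germ_smul']
        exact Submodule.smul_mem _ _ hs }
  have hiff : ∀ (x : ↥G) (s : Coh.structureModule X ⟶ L), x.1 ∉ CohB1.genLocus L s ↔ s ∈ P x := by
    intro x s
    obtain ⟨U, hxU, e, he⟩ := InvX.exists_frame hL x.1
    obtain ⟨g, hg⟩ := he.exists_coord le_rfl (AModX.res L (le_top : U ≤ ⊤) (InvX.one s))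
    rw [AModX.res_self] at hg
    have h2 : L.presheaf.germ ⊤ x.1 trivial (InvX.one s) =
        X.presheaf.germ U x.1 hxU g • L.presheaf.germ U x.1 hxU e := by
      rw [← QCoh.germ_smul' L hxU, ← hg]
      exact (L.presheaf.germ_res_apply (homOfLE le_top) x.1 hxU _).symm
    have hloc : x.1 ∈ CohB1.genLocus L s ↔ IsUnit (X.presheaf.germ U x.1 hxU g) := by
      rw [← X.mem_basicOpen g x.1 hxU, ← InvX.genLocus_inf s he hg]
      exact ⟨fun h => ⟨h, hxU⟩, fun h => h.1⟩
    rw [hloc]
    change _ ↔ L.presheaf.germ ⊤ x.1 trivial (InvX.one s) ∈ M x.1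
    rw [h2]
    refine ⟨fun h => Submodule.smul_mem_smul ((IsLocalRing.mem_maximalIdeal _).2 h) trivial, fun h hu => ?_⟩
    obtain ⟨c, hc, hce⟩ : ∃ c ∈ IsLocalRing.maximalIdeal (X.presheaf.stalk x.1),
        c • L.presheaf.germ U x.1 hxU e = X.presheaf.germ U x.1 hxU g • L.presheaf.germ U x.1 hxU e := by
      refine Submodule.smul_induction_on (p := fun z => ∃ c ∈ IsLocalRing.maximalIdeal (X.presheaf.stalk x.1),
        c • L.presheaf.germ U x.1 hxU e = z) h (fun a ha z _ => ?_) ?_
      · obtain ⟨d, rfl⟩ := (he.germ_bijective hxU).2 z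
        exact ⟨a * d, Ideal.mul_mem_right _ _ ha, mul_smul _ _ _⟩
      · rintro a b ⟨c, hc, rfl⟩ ⟨d, hd, rfl⟩
        exact ⟨c + d, add_mem hc hd, add_smul _ _ _⟩
    rw [(he.germ_bijective hxU).1 hce] at hc
    exact (IsLocalRing.mem_maximalIdeal _).1 hc hu
  obtain ⟨s, hs⟩ : ∃ s, ∀ x : ↥G, s ∉ P x := by
    by_contra hne
    push Not at hne
    obtain ⟨x, hx⟩ := Subspace.exists_eq_top_of_iUnion_eq_univ
      (Set.eq_univ_of_forall fun s => Set.mem_iUnion.2 (hne s) : ⋃ x, (P x : Set (Coh.structureModule X ⟶ L)) = Set.univ)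
    obtain ⟨s₀, hs₀⟩ := S1664.GenSec.exists_mem_genLocus hL hgg x.1
    exact (hiff x s₀).2 (hx ▸ Submodule.mem_top) hs₀
  refine ⟨s, fun h0 => hs ⟨genericPoint X, Finset.mem_insert_self _ _⟩ (h0 ▸ Submodule.zero_mem _),
    fun x hx => ?_⟩
  by_contra hc
  exact hs ⟨x, Finset.mem_insert_of_mem hx⟩ ((hiff ⟨x, Finset.mem_insert_of_mem hx⟩ s).1 hc)

include k in
/-- Regular closed points exist. -/
theorem exists_regular_closed (hdim : topologicalKrullDim X = 1) :
    ∃ x : X, IsClosed ({x} : Set X) ∧ IsRegularLocalRing (X.presheaf.stalk x) := by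
  haveI := CurveCohLib.isNoetherian_of_proper (k := k) (X := X)
  haveI : JacobsonSpace X := LocallyOfFiniteType.jacobsonSpace (X ↘ Spec (CommRingCat.of k))
  obtain ⟨x, hx, hxc⟩ := nonempty_inter_closedPoints (Z := {x : X | IsRegularLocalRing (X.presheaf.stalk x)})
    ⟨genericPoint X, RegLoc6.isRegularLocalRing_of_isField (CurveBundle.isField_stalk_generic (X := X))⟩
    (isOpen_regular k).isLocallyClosed
  exact ⟨x, hxc, hx⟩

end Groth.Agent.CurveGenusZero
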