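import Groth.Agent.CurveGenusZero.Basic
import Groth.Agent.DivX.MeroMod

/-!
The Picard group of a proper curve with `H¹(O) = 0` over an infinite field.
-/

noncomputable section

set_option linter.style.haveILetI false
set_option linter.unusedSectionVars false
set_option backward.isDefEq.respectTransparency false
set_option backward.isDefEq.respectTransparency.types false

universe u

open CategoryTheory CategoryTheory.Limits AlgebraicGeometry TopologicalSpace Opposite

namespace Groth.Agent.CurveGenusZero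

open Groth.Agent Groth.Agent.CurvePoint

variable {X : Scheme.{u}} (k : Type u) [Field k] [X.Over (Spec (CommRingCat.of k))] [IsIntegral X]
  [IsProper (X ↘ Spec (CommRingCat.of k))] [Infinite k]

theorem isIso_of_forall_mem {L : X.Modules} (s : Coh.structureModule X ⟶ L)
    (h : ∀ x, x ∈ CohB1.genLocus L s) : IsIso s := by
  refine DivX.isIso_of_frames s fun x => ?_
  obtain ⟨U, hxU, hU⟩ := InvX.mem_genLocus (h x)
  refine ⟨U, hxU, AModX.res (Coh.structureModule X) (le_top : U ≤ ⊤) (1 : Γ(X, ⊤)), ?_, ?_⟩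
  · exact (InvX.isFrame_one (X := X) ⊤).res _
  · rw [AModX.app_res]
    exact hU

/-- A positive degree below the degree of every regular point outside `F` does not occur. -/
theorem exists_vanishing (hdim : topologicalKrullDim X = 1)
    (h1 : Subsingleton (Coh.HH X (Coh.structureModule X) 1)) {L : X.Modules} (hL : PicF.IsInvertible L)
    (hdeg : 0 < Curv2.deg k X L 1) (F : Finset X) :
    ∃ (x : X) (hx : IsClosed ({x} : Set X)), x ∉ F ∧ IsRegularLocalRing (X.presheaf.stalk x) ∧
      (ptDeg k x hx : ℤ) ≤ Curv2.deg k X L 1 := by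
  classical
  haveI := CurveCohLib.isNoetherian_of_proper (k := k) (X := X)
  obtain ⟨s, hs, hsF⟩ := exists_avoid k hdim h1 hL hdeg.le
    (insert (genericPoint X) (F ∪ (finite_nonregular k hdim).toFinset))
  obtain ⟨x, hx⟩ : ∃ x, x ∉ CohB1.genLocus L s := by
    by_contra hall
    push Not at hall
    haveI := isIso_of_forall_mem s hall
    rw [← CurveRR.deg_congr k (asIso s) 1, CurveDeg.deg_structureModule] at hdeg
    exact lt_irrefl _ hdeg
  have hgen : genericPoint X ∈ CohB1.genLocus L s := hsF _ (Finset.mem_insert_self _ _)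
  have hcl : IsClosed ({x} : Set X) := by
    by_contra hc
    exact hx (CurveCohLib.eq_genericPoint_of_not_isClosed hdim hc ▸ hgen)
  have hr : IsRegularLocalRing (X.presheaf.stalk x) := by
    by_contra hnr
    exact hx (hsF x (Finset.mem_insert_of_mem (Finset.mem_union_right _ ((Set.Finite.mem_toFinset _).2 hnr))))
  exact ⟨x, hcl, fun hF => hx (hsF x (Finset.mem_insert_of_mem (Finset.mem_union_left _ hF))), hr, ptDeg_le k hdim hL s hs hcl hr hx⟩

theorem nonempty_iso_of_deg_zero (hdim : topologicalKrullDim X = 1)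
    (h1 : Subsingleton (Coh.HH X (Coh.structureModule X) 1)) {L : X.Modules} (hL : PicF.IsInvertible L)
    (hdeg : Curv2.deg k X L 1 = 0) : Nonempty (L ≅ Coh.structureModule X) := by
  obtain ⟨s, hs, -⟩ := exists_avoid k hdim h1 hL hdeg.ge ∅
  haveI : IsIso s := (CurveDeg.deg_le_and_isIso k hdim.le CurveDeg.isInvertible_structureModule hL s hs).2
    (by rw [CurveDeg.deg_structureModule, hdeg])
  exact ⟨(asIso s).symm⟩

theorem ptDeg_pos (hdim : topologicalKrullDim X = 1)
    (h1 : Subsingleton (Coh.HH X (Coh.structureModule X) 1)) (P : X) (hPc : IsClosed ({P} : Set X))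
    (hI : PicF.IsInvertible (ptMod P hPc)) : 0 < ptDeg k P hPc := by
  haveI := CurveCohLib.isNoetherian_of_proper (k := k) (X := X)
  by_contra h0
  have hle : (ptDeg k P hPc : ℤ) = 0 := by omega
  obtain ⟨e'⟩ := nonempty_iso_of_deg_zero k hdim h1 hI (by rw [deg_ptMod k hdim hPc, hle]; rfl)
  haveI : Mono (ClSub.idealModι (ptIdeal P hPc)) := (shortExact_pt P hPc).mono_f
  have hne : e'.inv ≫ ClSub.idealModι (ptIdeal P hPc) ≠ 0 := fun h => by
    have h2 := (cancel_mono (ClSub.idealModι (ptIdeal P hPc))).1 (h.trans zero_comp.symm)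
    obtain ⟨s, hs, -⟩ := exists_avoid k hdim h1 CurveDeg.isInvertible_structureModule
      (by rw [CurveDeg.deg_structureModule]) (∅ : Finset X)
    exact hs (by rw [← Category.comp_id s, ← e'.inv_hom_id, h2, zero_comp, comp_zero])
  haveI := (CurveDeg.deg_le_and_isIso k hdim.le CurveDeg.isInvertible_structureModule
    CurveDeg.isInvertible_structureModule _ hne).2 rfl
  haveI : IsIso (ClSub.idealModι (ptIdeal P hPc)) := IsIso.of_isIso_comp_left e'.inv _
  have hz : ClSub.toSubscheme (ptIdeal P hPc) = 0 := by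
    rw [← cancel_epi (ClSub.idealModι (ptIdeal P hPc)), comp_zero]
    exact kernel.condition _
  haveI := epi_toSubscheme (ptIdeal P hPc)
  exact not_subsingleton_stalk P hPc (not_not.1 (Snapper.notMem_support_iff.2
    ((DerSch.stalkFunctor X P).map_isZero (IsZero.of_epi_eq_zero (ClSub.toSubscheme (ptIdeal P hPc)) hz))))

theorem infinite_minimal (hdim : topologicalKrullDim X = 1)
    (h1 : Subsingleton (Coh.HH X (Coh.structureModule X) 1)) :
    {P : X | ∃ hPc : IsClosed ({P} : Set X), IsRegularLocalRing (X.presheaf.stalk P) ∧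
      ∀ (Q : X) (hQc : IsClosed ({Q} : Set X)), IsRegularLocalRing (X.presheaf.stalk Q) →
        ptDeg k P hPc ≤ ptDeg k Q hQc}.Infinite := by
  classical
  haveI := CurveCohLib.isNoetherian_of_proper (k := k) (X := X)
  obtain ⟨x₀, hx₀, hr₀⟩ := exists_regular_closed k hdim
  have hex : ∃ n, ∃ (x : X) (hx : IsClosed ({x} : Set X)), IsRegularLocalRing (X.presheaf.stalk x) ∧
      ptDeg k x hx = n := ⟨_, x₀, hx₀, hr₀, rfl⟩
  obtain ⟨P, hPc, hPr, hP⟩ := Nat.find_spec hex
  have hmin : ∀ (Q : X) (hQc : IsClosed ({Q} : Set X)), IsRegularLocalRing (X.presheaf.stalk Q) →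
      ptDeg k P hPc ≤ ptDeg k Q hQc := fun Q hQc hQr => hP ▸ Nat.find_min' hex ⟨Q, hQc, hQr, rfl⟩
  have hI := isInvertible_ptMod k hdim hPc hPr
  obtain ⟨D, hD, ⟨e⟩⟩ := H23.PicInv.exists_inverse hI
  have hdD : Curv2.deg k X D 1 = (ptDeg k P hPc : ℤ) := by
    have h := CurveRR.deg_tensor k hdim hI hD
    have h' := CurveRR.deg_congr k e 1
    change Curv2.deg k X ((DCoh.tensorBi.obj _).obj D) 1 = _ at h'
    rw [h, CurveDeg.deg_structureModule, deg_ptMod k hdim hPc] at h'
    linarith
  have hpos : 0 < ptDeg k P hPc := ptDeg_pos k hdim h1 P hPc hI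
  intro hfin
  obtain ⟨x, hx, hxF, hxr, hle⟩ := exists_vanishing k hdim h1 hD (by rw [hdD]; exact_mod_cast hpos) hfin.toFinset
  refine hxF ((Set.Finite.mem_toFinset _).2 ⟨hx, hxr, fun Q hQc hQr => ?_⟩)
  rw [hdD] at hle
  exact (Int.ofNat_le.1 hle).trans (hmin Q hQc hQr)

variable [PicGrp.Law X]

theorem mem_zpowers (hdim : topologicalKrullDim X = 1)
    (h1 : Subsingleton (Coh.HH X (Coh.structureModule X) 1)) (P : X) (hPc : IsClosed ({P} : Set X))
    (hmin : ∀ (Q : X) (hQc : IsClosed ({Q} : Set X)), IsRegularLocalRing (X.presheaf.stalk Q) →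
      ptDeg k P hPc ≤ ptDeg k Q hQc) (hI : PicF.IsInvertible (ptMod P hPc))
    (c : PicLoc.PicSet X) :
    c ∈ Subgroup.zpowers (PicGrp.cls (ptMod P hPc) hI) := by
  have hpos := ptDeg_pos k hdim h1 P hPc hI
  set H := Subgroup.zpowers (PicGrp.cls (ptMod P hPc) hI) with hH
  set δ : ℤ := (ptDeg k P hPc : ℤ) with hδ
  have hδpos : 0 < δ := by rw [hδ]; exact_mod_cast hpos
  obtain ⟨D, hD, ⟨e⟩⟩ := H23.PicInv.exists_inverse hI
  have hdI : Curv2.deg k X (ptMod P hPc) 1 = -δ := deg_ptMod k hdim hPc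
  have hdD : Curv2.deg k X D 1 = δ := by
    have h := CurveRR.deg_tensor k hdim hI hD
    have h' := CurveRR.deg_congr k e 1
    change Curv2.deg k X ((DCoh.tensorBi.obj _).obj D) 1 = _ at h'
    rw [h, CurveDeg.deg_structureModule, hdI] at h'
    linarith
  have hDc : PicGrp.cls D hD ∈ H := by
    rw [← PicGrp.cls_inv_eq_cls hI hD ⟨e⟩]
    exact inv_mem (Subgroup.mem_zpowers _)
  have hstep : ∀ (L : X.Modules) (hL : PicF.IsInvertible L) (T : X.Modules) (hT : PicF.IsInvertible T),
      PicGrp.cls T hT ∈ H → PicGrp.cls (CohB1.tensorMod L T) (InvX.isInvertible_tensorMod hL hT) ∈ H →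
      PicGrp.cls L hL ∈ H := fun L hL T hT hTc h => by
    rw [show PicGrp.cls (CohB1.tensorMod L T) (InvX.isInvertible_tensorMod hL hT) =
      PicGrp.cls L hL * PicGrp.cls T hT from Subtype.ext (PicGrp.cls_mul_cls_val hL hT).symm] at h
    exact (mul_mem_cancel_right hTc).1 h
  have key : ∀ (q : ℤ) (L : X.Modules) (hL : PicF.IsInvertible L),
      q * δ ≤ Curv2.deg k X L 1 → Curv2.deg k X L 1 < (q + 1) * δ → PicGrp.cls L hL ∈ H := by
    intro q
    induction q using Int.induction_on with
    | zero =>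
      intro L hL h0 hlt
      rw [zero_mul] at h0
      rw [zero_add, one_mul] at hlt
      rcases h0.eq_or_lt with h | h
      · rw [(PicGrp.cls_eq_one_iff hL).2 (nonempty_iso_of_deg_zero k hdim h1 hL h.symm)]
        exact one_mem _
      · obtain ⟨x, hx, -, hxr, hle⟩ := exists_vanishing k hdim h1 hL h ∅
        exact absurd ((Int.ofNat_le.2 (hmin x hx hxr)).trans hle) (not_le.2 hlt)
    | succ n ih =>
      intro L hL h0 hlt
      refine hstep L hL _ hI (Subgroup.mem_zpowers _) (ih _ _ ?_ ?_)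
      all_goals
        rw [show Curv2.deg k X (CohB1.tensorMod L (ptMod P hPc)) 1 = _ from CurveRR.deg_tensor k hdim hL hI, hdI]
        linarith
    | pred n ih =>
      intro L hL h0 hlt
      refine hstep L hL _ hD hDc (ih _ _ ?_ ?_)
      all_goals
        rw [show Curv2.deg k X (CohB1.tensorMod L D) 1 = _ from CurveRR.deg_tensor k hdim hL hD, hdD]
        linarith
  obtain ⟨a, L, ha, hL⟩ := c
  subst ha
  refine key (Curv2.deg k X L 1 / δ) L hL (Int.ediv_mul_le _ hδpos.ne') ?_
  have := Int.lt_ediv_add_one_mul_self (Curv2.deg k X L 1) hδpos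
  exact this

end Groth.Agent.CurveGenusZero
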